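import Mathlib
import Cfsg.Agent.H54.J4.Embed

/-!
Words in the three generators of the presented fourth Janko group, identities between words in the first
two generators checked on 24 points, and word identities checked in the 112-dimensional representation.
-/

set_option autoImplicit false
set_option maxRecDepth 100000

namespace H26.J4Schur

open H54.J4

section Words

variable {G H : Type*} [Group G] [Group H]

/-- a letter: `0 ↦ a`, `1 ↦ b`, `2 ↦ b * b`, anything else `↦ c` -/
def gv (a b c : G) : ℕ → G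
  | 0 => a
  | 1 => b
  | 2 => b * b
  | _ => c

/-- the value of a word, read from left to right -/
def wv (a b c : G) : List ℕ → G
  | [] => 1
  | g :: w => gv a b c g * wv a b c w

theorem map_gv (f : G →* H) (a b c : G) (g : ℕ) : f (gv a b c g) = gv (f a) (f b) (f c) g := by
  rcases g with _ | _ | _ | g <;> simp [gv]

theorem map_wv (f : G →* H) (a b c : G) : ∀ l, f (wv a b c l) = wv (f a) (f b) (f c) l
  | [] => by simp [wv]
  | g :: w => by simp [wv, map_gv, map_wv f a b c w]

theorem wv_append (a b c : G) : ∀ l m, wv a b c (l ++ m) = wv a b c l * wv a b c m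
  | [], m => by simp [wv]
  | g :: l, m => by simp [wv, wv_append a b c l m, mul_assoc]

theorem wv_noT (a b c : G) : ∀ l : List ℕ, (∀ g ∈ l, g < 3) → wv a b c l = wv a b 1 l
  | [], _ => rfl
  | g :: l, h => by
    have hg := h g List.mem_cons_self
    have ih := wv_noT a b c l fun k hk => h k (List.mem_cons_of_mem _ hk)
    rcases g with _ | _ | _ | g
    · simp [wv, gv, ih]
    · simp [wv, gv, ih]
    · simp [wv, gv, ih]
    · omega

/-- the word fixed by the symmetric generator, as printed -/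
def fW (x y : G) : G := y * x * y * ((x * y⁻¹) ^ 2) * ((x * y) ^ 3)

/-- the conjugator in the first long relator -/
def fA (x y : G) : G := y * x * y⁻¹ * x * y * x * y⁻¹ * x

/-- the conjugator in the second long relator -/
def fB (x y : G) : G := ((x * y) ^ 3) * y * ((x * y) ^ 6) * y

/-- the element of order four in the second long relator -/
def fZ (x y : G) : G := (y * x * y * x * y * x * y) ^ 3

/-- words in x and the fixed word -/
def xw (x y : G) (l : List ℕ) : G := wv x (fW x y) 1 l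

theorem map_fW (f : G →* H) (x y : G) : f (fW x y) = fW (f x) (f y) := by simp [fW]

theorem map_fA (f : G →* H) (x y : G) : f (fA x y) = fA (f x) (f y) := by simp [fA]

theorem map_fB (f : G →* H) (x y : G) : f (fB x y) = fB (f x) (f y) := by simp [fB]

theorem map_fZ (f : G →* H) (x y : G) : f (fZ x y) = fZ (f x) (f y) := by simp [fZ]

theorem map_xw (f : G →* H) (x y : G) (l : List ℕ) : f (xw x y l) = xw (f x) (f y) l := by
  simp [xw, map_wv, map_fW]

end Words

def lw : List ℕ := [1, 0, 1, 0, 2, 0, 2, 0, 1, 0, 1, 0, 1]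
def la0 : List ℕ := [0, 1, 1, 1, 0, 1, 0, 1, 1, 0, 1, 1, 1, 0, 1, 0]
def la0b : List ℕ := [0, 1, 0, 1, 1, 1, 0, 1, 0, 1, 1, 1, 0, 1, 1, 0, 1, 0, 1, 1]
def lz : List ℕ :=
  [0, 1, 1, 0, 1, 1, 0, 1, 1, 1, 0, 1, 0, 1, 1, 1, 0, 1, 1, 1, 0, 1, 1, 1, 0, 1, 1, 1, 0, 1, 1, 1,
    0, 1, 0]
def ls : List ℕ := [1, 0, 1, 0, 1, 1, 1, 0, 1, 0, 1, 1, 1, 0, 1, 1, 0, 1, 0, 1]
def li8 : List ℕ :=
  [0, 1, 0, 2, 0, 1, 0, 2, 0, 2, 0, 1, 0, 1, 0, 2, 0, 1, 0, 2, 0, 2, 0, 1]
def li7 : List ℕ := [1, 0, 1, 0, 2, 0, 2]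
def lg : List ℕ := [3, 0, 2]
def lgi : List ℕ := [1, 0, 3]
def lzxy : List ℕ := (List.replicate 3 [1, 0, 1, 0, 1, 0, 1]).flatten
def lb : List ℕ :=
  (List.replicate 3 [0, 1]).flatten ++ [1] ++ (List.replicate 6 [0, 1]).flatten ++ [1]
def lbi : List ℕ :=
  [2] ++ (List.replicate 6 [2, 0]).flatten ++ [2] ++ (List.replicate 3 [2, 0]).flatten
def lsxy : List ℕ := ls.flatMap fun g => if g = 0 then [0] else lw

/-! ### The subgroup of order 244823040 -/

/-- action on 24 points -/
def toPerm : Pres →* Equiv.Perm (Fin 24) :=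
  PresentedGroup.toGroup (f := ![permX, permY]) (by
    rintro r ⟨w, hw, rfl⟩
    rw [map_ev]
    simpa using perm_rels w hw)

theorem toPerm_gA : toPerm gA = permX := by simp [toPerm, gA]

theorem toPerm_gB : toPerm gB = permY := by simp [toPerm, gB]

theorem toPerm_injective : Function.Injective toPerm := by
  have e : (Cfsg.M24.subtype).comp toM24 = toPts.comp toPerm := by
    refine PresentedGroup.ext fun i => ?_
    fin_cases i
    · exact (congrArg Subtype.val toM24_gA).trans (congrArg toPts toPerm_gA).symm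
    · exact (congrArg Subtype.val toM24_gB).trans (congrArg toPts toPerm_gB).symm
  refine (injective_iff_map_eq_one _).2 fun k hk => toM24_bijective.1 ?_
  rw [map_one]
  apply Subtype.ext
  have := DFunLike.congr_fun e k
  simpa [hk] using this

/-- the generator x -/
def pA : Pres := gA
/-- the generator y -/
def pB : Pres := gB⁻¹

theorem toPerm_pA : toPerm pA = permX := toPerm_gA

theorem toPerm_pB : toPerm pB = permY⁻¹ := by rw [pB, map_inv, toPerm_gB]

theorem P_A0b : fB pA pB * xw pA pB la0 * (fB pA pB)⁻¹ = xw pA pB la0b :=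
  toPerm_injective (by
    simp only [map_mul, map_inv, map_xw, map_fB, toPerm_pA, toPerm_pB]; decide +kernel)

theorem P_A0Z : xw pA pB la0 * fZ pA pB * (xw pA pB la0)⁻¹ = (fZ pA pB)⁻¹ :=
  toPerm_injective (by
    simp only [map_mul, map_inv, map_xw, map_fZ, toPerm_pA, toPerm_pB]; decide +kernel)

theorem P_Z : fZ pA pB = xw pA pB lz :=
  toPerm_injective (by simp only [map_xw, map_fZ, toPerm_pA, toPerm_pB]; decide +kernel)

theorem P_S : xw pA pB ls * xw pA pB ls = 1 :=
  toPerm_injective (by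
    simp only [map_mul, map_xw, map_one, toPerm_pA, toPerm_pB]; decide +kernel)

theorem P_i8 : wv pA pB 1 li8 * wv pA pB 1 li8 = 1 :=
  toPerm_injective (by
    simp only [map_mul, map_wv, map_one, toPerm_pA, toPerm_pB]; decide +kernel)

theorem P_i7 : wv pA pB 1 li7 * wv pA pB 1 li7 = 1 :=
  toPerm_injective (by
    simp only [map_mul, map_wv, map_one, toPerm_pA, toPerm_pB]; decide +kernel)

theorem P_sxy : xw pA pB ls = wv pA pB 1 lsxy :=
  toPerm_injective (by
    simp only [map_wv, map_xw, map_one, toPerm_pA, toPerm_pB]; decide +kernel)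

theorem P_zxy : fZ pA pB = wv pA pB 1 lzxy :=
  toPerm_injective (by
    simp only [map_wv, map_fZ, map_one, toPerm_pA, toPerm_pB]; decide +kernel)

theorem P_b : fB pA pB = wv pA pB 1 lb :=
  toPerm_injective (by
    simp only [map_wv, map_fB, map_one, toPerm_pA, toPerm_pB]; decide +kernel)

theorem P_bi : (fB pA pB)⁻¹ = wv pA pB 1 lbi :=
  toPerm_injective (by
    simp only [map_inv, map_wv, map_fB, map_one, toPerm_pA, toPerm_pB]; decide +kernel)

theorem P_rels : pA ^ 2 = 1 ∧ pB ^ 3 = 1 ∧ (pA * pB) ^ 23 = 1 ∧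
    (pA⁻¹ * pB⁻¹ * pA * pB) ^ 12 = 1 ∧
    (pA⁻¹ * (pB * pA * pB)⁻¹ * pA * (pB * pA * pB)) ^ 5 = 1 ∧
    (pA * pB * ((pA * pB * pA * (pB⁻¹)) ^ 3)) ^ 4 = 1 ∧
    ((pA * pB * pA * pB * pA * (pB⁻¹)) ^ 3) * ((pA * pB * pA * (pB⁻¹) * pA * (pB⁻¹)) ^ 3) = 1 := by
  refine ⟨?_, ?_, ?_, ?_, ?_, ?_, ?_⟩ <;> apply toPerm_injective <;>
    simp only [map_mul, map_pow, map_inv, map_one, toPerm_pA, toPerm_pB] <;> decide +kernel

/-! ### The representation -/

/-- the presented group -/
abbrev J : Type := Cfsg.Spor.J4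

/-- x -/
def cx : J := PresentedGroup.of Cfsg.Spor.J4.Gen.x
/-- y -/
def cy : J := PresentedGroup.of Cfsg.Spor.J4.Gen.y
/-- t -/
def ct : J := PresentedGroup.of Cfsg.Spor.J4.Gen.t

/-- the representation -/
noncomputable def rho : J →* Rep.Matˣ := PresentedGroup.toGroup Rep.rels_hold

theorem rho_cx : rho cx = Rep.uX := PresentedGroup.toGroup.of Rep.rels_hold
theorem rho_cy : rho cy = Rep.uY := PresentedGroup.toGroup.of Rep.rels_hold
theorem rho_ct : rho ct = Rep.uT := PresentedGroup.toGroup.of Rep.rels_hold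

theorem toJ_pA : toJ pA = cx := toJ_gA

theorem toJ_pB : toJ pB = cy := by rw [pB, map_inv, toJ_gB, inv_inv]; rfl

/-- simplicity makes the representation faithful -/
theorem rho_injective (hs : IsSimpleGroup J) : Function.Injective rho := by
  rcases (MonoidHom.normal_ker rho).eq_bot_or_eq_top with h | h
  · exact (MonoidHom.ker_eq_bot_iff rho).mp h
  · exact absurd (rho_cx.symm.trans (MonoidHom.mem_ker.mp (h ▸ Subgroup.mem_top cx))) Rep.uX_ne_one

/-- the code of a letter -/
noncomputable def gc : ℕ → ℕ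
  | 0 => Rep.cX
  | 1 => Rep.cY
  | 2 => Rep.mulC Rep.cY Rep.cY
  | _ => Rep.cT

/-- the code of a word -/
noncomputable def wc : List ℕ → ℕ
  | [] => Rep.cI
  | g :: w => Rep.mulC (gc g) (wc w)

theorem is_wv : ∀ l, Rep.Is (wv Rep.uX Rep.uY Rep.uT l) (wc l)
  | [] => by
    show ((1 : Rep.Matˣ) : Rep.Mat) = _
    rw [Units.val_one]; exact Rep.matC_cI.symm
  | g :: w => by
    rcases g with _ | _ | _ | g
    · exact Rep.isX.mul (is_wv w)
    · exact Rep.isY.mul (is_wv w)
    · exact (Rep.isY.mul Rep.isY).mul (is_wv w)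
    · exact Rep.isT.mul (is_wv w)

/-- a word identity of the presented group -/
theorem word_pow_one (hs : IsSimpleGroup J) {l : List ℕ} {m : ℕ}
    (h : Rep.powC (wc l) m = Rep.cI) : wv cx cy ct l ^ m = 1 :=
  rho_injective hs (by
    rw [map_pow, map_wv, map_one, rho_cx, rho_cy, rho_ct]
    exact Rep.eq_one_of_is ((is_wv l).pow m) h)

theorem c_t : Rep.powC (wc ([3] ++ lgi ++ li8 ++ lg)) 11 = Rep.cI := by decide +kernel
theorem c_g : Rep.powC (wc (lgi ++ lg)) 1 = Rep.cI := by decide +kernel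
theorem c_tx : Rep.powC (wc ([3, 0] ++ li7)) 31 = Rep.cI := by decide +kernel
theorem c_ts : Rep.powC (wc ([3] ++ lsxy ++ li8)) 5 = Rep.cI := by decide +kernel
theorem c_h : Rep.powC (wc (lzxy ++ [3] ++ lbi ++ [3] ++ lb ++ [0])) 31 = Rep.cI := by
  decide +kernel

end H26.J4Schur
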