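import Mathlib
import Cfsg.Agent.H26.J4Schur.Words
import Cfsg.Agent.H97.SchurM24
import Cfsg.Prelude.Def_KGroupFacts

/-!
Every finite stem extension of the presented fourth Janko group splits, once that group is simple.
-/

set_option autoImplicit false
set_option linter.style.show false
set_option linter.unusedSectionVars false
set_option maxRecDepth 8000

namespace H26.J4Schur

open H54.J4
open scoped commutatorElement

section Lifting

variable {Γ : Type} [Group Γ] [Finite Γ]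

/-- the subgroup generated by x and y lifts to any central extension -/
theorem exists_psi (σ : Γ →* J) (hsurj : Function.Surjective σ)
    (hc : σ.ker ≤ Subgroup.center Γ) : ∃ ψ : Pres →* Γ, ∀ p, σ (ψ p) = toJ p := by
  haveI : Finite Pres := card_pres.1
  let toj : Pres →* J := toJ
  let P : Subgroup (Pres × Γ) :=
    MonoidHom.eqLocus (toj.comp (MonoidHom.fst Pres Γ)) (σ.comp (MonoidHom.snd Pres Γ))
  let π1 : P →* Pres := (MonoidHom.fst Pres Γ).comp P.subtype
  have hπ1 : Function.Surjective π1 := fun p => by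
    obtain ⟨g, hg⟩ := hsurj (toj p)
    exact ⟨⟨(p, g), hg.symm⟩, rfl⟩
  have hcen : π1.ker ≤ Subgroup.center P := fun k hk => by
    have h1 : k.1.1 = 1 := hk
    have h2 : k.1.2 ∈ σ.ker := by
      rw [MonoidHom.mem_ker]
      have := k.2
      change toj k.1.1 = σ k.1.2 at this
      rw [← this, h1, map_one]
    rw [Subgroup.mem_center_iff]
    intro q
    apply Subtype.ext
    refine Prod.ext ?_ ?_
    · show q.1.1 * k.1.1 = k.1.1 * q.1.1
      rw [h1, one_mul, mul_one]
    · exact Subgroup.mem_center_iff.1 (hc h2) q.1.2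
  let E : Subgroup P := commutator P
  let π : E →* Pres := π1.comp E.subtype
  have hπ : Function.Surjective π := by
    intro p
    have hp : p ∈ E.map π1 := by
      have e : (commutator P).map π1 = commutator Pres := by
        rw [commutator_def, commutator_def, Subgroup.map_commutator,
          Subgroup.map_top_of_surjective π1 hπ1]
      rw [show E.map π1 = commutator Pres from e, pres_perfect]; exact Subgroup.mem_top p
    obtain ⟨q, hq, e⟩ := hp
    exact ⟨⟨q, hq⟩, e⟩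
  have hperf : commutator E = ⊤ := by
    have hle : E ≤ (commutator E).map E.subtype := by
      show commutator P ≤ _
      rw [commutator_def, Subgroup.commutator_le]
      intro a _ b _
      obtain ⟨a', ha⟩ := hπ (π1 a)
      obtain ⟨b', hb⟩ := hπ (π1 b)
      have ka : a⁻¹ * a'.1 ∈ Subgroup.center P := hcen (by
        rw [MonoidHom.mem_ker, map_mul, map_inv, show π1 a'.1 = π1 a from ha, inv_mul_cancel])
      have kb : b⁻¹ * b'.1 ∈ Subgroup.center P := hcen (by
        rw [MonoidHom.mem_ker, map_mul, map_inv, show π1 b'.1 = π1 b from hb, inv_mul_cancel])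
      have key : ⁅a, b⁆ = ⁅(a' : P), (b' : P)⁆ := by
        have cA := Subgroup.mem_center_iff.1 ka
        have cB := Subgroup.mem_center_iff.1 kb
        have ea : (a' : P) = a * (a⁻¹ * a'.1) := by group
        have eb : (b' : P) = b * (b⁻¹ * b'.1) := by group
        rw [ea, eb]
        generalize a⁻¹ * a'.1 = u at cA ⊢
        generalize b⁻¹ * b'.1 = v at cB ⊢
        rw [commutatorElement_def, commutatorElement_def, mul_inv_rev, mul_inv_rev]
        calc a * b * a⁻¹ * b⁻¹ = a * b * (u * u⁻¹) * a⁻¹ * (v * v⁻¹) * b⁻¹ := by group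
          _ = a * u * (b * v) * (u⁻¹ * a⁻¹) * (v⁻¹ * b⁻¹) := by
            have e1 : b * (u * u⁻¹) = u * b * u⁻¹ := by rw [← mul_assoc, cA b]
            have e2 : ∀ w : P, u⁻¹ * a⁻¹ * (v * w) = v * (u⁻¹ * a⁻¹ * w) := fun w => by
              rw [← mul_assoc, cB (u⁻¹ * a⁻¹), mul_assoc]
            calc a * b * (u * u⁻¹) * a⁻¹ * (v * v⁻¹) * b⁻¹
                = a * (b * (u * u⁻¹)) * a⁻¹ * (v * v⁻¹) * b⁻¹ := by group
              _ = a * (u * b * u⁻¹) * a⁻¹ * (v * v⁻¹) * b⁻¹ := by rw [e1]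
              _ = a * u * b * (u⁻¹ * a⁻¹ * (v * (v⁻¹ * b⁻¹))) := by group
              _ = a * u * b * (v * (u⁻¹ * a⁻¹ * (v⁻¹ * b⁻¹))) := by rw [e2]
              _ = _ := by group
      rw [key]
      exact ⟨⁅a', b'⁆, Subgroup.commutator_mem_commutator (Subgroup.mem_top _) (Subgroup.mem_top _),
        by simp [map_commutatorElement]⟩
    rw [eq_top_iff]
    intro e _
    obtain ⟨x, hx, hxe⟩ := hle e.2
    rwa [Subtype.ext (a1 := x) (a2 := e) hxe] at hx
  obtain ⟨-, hall⟩ : Cfsg.HasCyclicSchurMultiplier Cfsg.M24 1 :=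
    H97.SchurCert.hasTrivialMultiplier_M24
  have hstem : Cfsg.IsStemExtension (toM24.comp π) := by
    refine ⟨toM24_bijective.2.comp hπ, fun k hk => ?_, by rw [hperf]; exact le_top⟩
    have hk' : π k = 1 := toM24_bijective.1 ((MonoidHom.mem_ker.1 hk).trans (map_one toM24).symm)
    have := hcen (show (k : P) ∈ π1.ker from hk')
    rw [Subgroup.mem_center_iff] at this ⊢
    exact fun q => Subtype.ext (this q)
  obtain ⟨φ, hφ⟩ := hall E (toM24.comp π) hstem
  have hinj : Function.Injective π := by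
    refine (injective_iff_map_eq_one π).2 fun k hk => ?_
    obtain ⟨m, hm⟩ := hφ ⟨k, by simp [MonoidHom.mem_ker, hk]⟩
    rw [Subsingleton.elim m 1, map_one] at hm
    exact (congrArg Subtype.val hm).symm
  let e : E ≃* Pres := MulEquiv.ofBijective π ⟨hinj, hπ⟩
  refine ⟨((MonoidHom.snd Pres Γ).comp (P.subtype.comp E.subtype)).comp e.symm.toMonoidHom,
    fun p => ?_⟩
  have h := (e.symm p).1.2
  change toj (e.symm p).1.1.1 = σ (e.symm p).1.1.2 at h
  have h' : (e.symm p).1.1.1 = p := e.apply_symm_apply p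
  rw [h'] at h
  exact h.symm

end Lifting

section Relations

variable {Γ : Type} [Group Γ] {σ : Γ →* J}

theorem comm (hc : σ.ker ≤ Subgroup.center Γ) {z : Γ} (hz : z ∈ σ.ker) (g : Γ) : g * z = z * g :=
  Subgroup.mem_center_iff.1 (hc hz) g

/-- from a lift satisfying the relators the kernel is trivial -/
theorem core (hc : σ.ker ≤ Subgroup.center Γ) (hk : σ.ker ≤ commutator Γ) (ψ : Pres →* Γ)
    (hψ : ∀ p, σ (ψ p) = toJ p) (T : Γ) (hT : σ T = ct) (h8 : T ^ 2 = 1)
    (h9 : T⁻¹ * (fW (ψ pA) (ψ pB))⁻¹ * T * fW (ψ pA) (ψ pB) = 1)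
    (h10 : T⁻¹ * (ψ pA)⁻¹ * T * ψ pA = 1)
    (h11 : (ψ pB * ((fA (ψ pA) (ψ pB))⁻¹ * T * fA (ψ pA) (ψ pB))) ^ 3 = 1)
    (h12 : (fZ (ψ pA) (ψ pB) * T * ((fB (ψ pA) (ψ pB))⁻¹ * T * fB (ψ pA) (ψ pB))) ^ 2 = 1) :
    σ.ker = ⊥ := by
  obtain ⟨r1, r2, r3, r4, r5, r6, r7⟩ := P_rels
  let f : Cfsg.Spor.J4.Gen → Γ := fun g => match g with
    | .x => ψ pA
    | .y => ψ pB
    | .t => T
  have hf : ∀ r ∈ Cfsg.Spor.coxRelators Cfsg.Spor.J4.edges ∪ {r | r ∈ Cfsg.Spor.J4.extra},
      FreeGroup.lift f r = 1 := by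
    rintro r (hr | hr)
    · simp [Cfsg.Spor.coxRelators, Cfsg.Spor.coxNodes, Cfsg.Spor.J4.edges] at hr
    · simp only [Set.mem_setOf_eq, Cfsg.Spor.J4.extra, List.mem_cons, List.not_mem_nil,
        or_false] at hr
      rcases hr with rfl | rfl | rfl | rfl | rfl | rfl | rfl | rfl | rfl | rfl | rfl | rfl <;>
        simp only [Cfsg.Spor.J4.x, Cfsg.Spor.J4.y, Cfsg.Spor.J4.t, map_mul, map_pow, map_inv,
          FreeGroup.lift_apply_of, f]
      · simpa using congrArg ψ r1
      · simpa using congrArg ψ r2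
      · simpa using congrArg ψ r3
      · simpa using congrArg ψ r4
      · simpa using congrArg ψ r5
      · simpa using congrArg ψ r6
      · simpa using congrArg ψ r7
      · exact h8
      · exact h9
      · exact h10
      · exact h11
      · exact h12
  let s : J →* Γ := PresentedGroup.toGroup hf
  have hs : ∀ j, σ (s j) = j := by
    intro j
    have : σ.comp s = MonoidHom.id J := by
      refine PresentedGroup.ext fun i => ?_
      show σ (s (PresentedGroup.of i)) = PresentedGroup.of i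
      rw [show s (PresentedGroup.of i) = f i from PresentedGroup.toGroup.of hf]
      cases i
      · exact (hψ pA).trans toJ_pA
      · exact (hψ pB).trans toJ_pB
      · exact hT
    exact DFunLike.congr_fun this j
  have hcomm : commutator Γ ≤ s.range := by
    rw [commutator_def, Subgroup.commutator_le]
    intro a _ b _
    have ka : (s (σ a))⁻¹ * a ∈ σ.ker := by
      rw [MonoidHom.mem_ker, map_mul, map_inv, hs, inv_mul_cancel]
    have kb : (s (σ b))⁻¹ * b ∈ σ.ker := by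
      rw [MonoidHom.mem_ker, map_mul, map_inv, hs, inv_mul_cancel]
    refine ⟨⁅σ a, σ b⁆, ?_⟩
    rw [map_commutatorElement]
    have ea : a = s (σ a) * ((s (σ a))⁻¹ * a) := by group
    have eb : b = s (σ b) * ((s (σ b))⁻¹ * b) := by group
    generalize (s (σ a))⁻¹ * a = u at ka ea
    generalize (s (σ b))⁻¹ * b = v at kb eb
    generalize s (σ a) = A at ea ⊢
    generalize s (σ b) = B at eb ⊢
    subst ea eb
    have cu := comm hc ka
    have cv := comm hc kb
    rw [commutatorElement_def, commutatorElement_def, mul_inv_rev, mul_inv_rev]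
    symm
    calc A * u * (B * v) * (u⁻¹ * A⁻¹) * (v⁻¹ * B⁻¹)
        = A * (u * (B * v * u⁻¹)) * A⁻¹ * (v⁻¹ * B⁻¹) := by group
      _ = A * (B * v * u⁻¹ * u) * A⁻¹ * (v⁻¹ * B⁻¹) := by rw [cu]
      _ = A * B * (v * (A⁻¹ * v⁻¹)) * B⁻¹ := by group
      _ = A * B * (A⁻¹ * v⁻¹ * v) * B⁻¹ := by rw [cv]
      _ = A * B * A⁻¹ * B⁻¹ := by group
  rw [Subgroup.eq_bot_iff_forall]
  intro z hz
  obtain ⟨j, rfl⟩ := hcomm (hk hz)
  have : j = 1 := (hs j).symm.trans (MonoidHom.mem_ker.1 hz)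
  rw [this, map_one]

/-- an element with central square is exact when it has an odd partner -/
theorem sq_one_of_odd (hc : σ.ker ≤ Subgroup.center Γ) (h2 : ∀ z ∈ σ.ker, z * z = 1) {h ι : Γ}
    {k : ℕ} (hh : h * h ∈ σ.ker) (hι : ι * ι = 1) (hm : σ (h * ι) ^ (2 * k + 1) = 1) :
    h * h = 1 := by
  have hζ : (h * ι) ^ (2 * k + 1) ∈ σ.ker := by rw [MonoidHom.mem_ker, map_pow, hm]
  set z := h * h with hz
  set d := h * ι with hd
  have hιi : ι⁻¹ = ι := inv_eq_of_mul_eq_one_right hι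
  have e1 : ι * d * ι⁻¹ = d⁻¹ * z := by
    rw [hd, hz, mul_inv_rev, hιi]
    calc ι * (h * ι) * ι = ι * h * (ι * ι) := by group
      _ = ι * h := by rw [hι, mul_one]
      _ = ι * h⁻¹ * (h * h) := by group
  have e2 : ι * d ^ (2 * k + 1) * ι⁻¹ = (d⁻¹) ^ (2 * k + 1) * z ^ (2 * k + 1) := by
    rw [← conj_pow, e1]
    exact Commute.mul_pow (comm hc hh d⁻¹) _
  have e3 : z ^ (2 * k + 1) = z := by
    rw [pow_succ, pow_mul, pow_two, h2 z hh, one_pow, one_mul]
  rw [comm hc hζ ι, mul_assoc, mul_inv_cancel, mul_one, inv_pow, e3] at e2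
  calc z = d ^ (2 * k + 1) * ((d ^ (2 * k + 1))⁻¹ * z) := by group
    _ = d ^ (2 * k + 1) * d ^ (2 * k + 1) := by rw [← e2]
    _ = 1 := h2 _ hζ

/-- moving a word in x and the fixed word across the symmetric generator -/
theorem move_word (T a w c : Γ) (hT : T * T = 1) (ha : T * a * T = a) (hw : T * w * T = w * c)
    (hc : ∀ g, g * c = c * g) :
    ∀ l : List ℕ, (∀ g ∈ l, g < 2) → T * wv a w 1 l * T = wv a w 1 l * c ^ l.sum
  | [], _ => by simp [wv, hT]
  | g :: l, h => by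
    have ih := move_word T a w c hT ha hw hc l fun k hk => h k (List.mem_cons_of_mem _ hk)
    have hg := h g List.mem_cons_self
    have hsplit : T * (gv a w 1 g * wv a w 1 l) * T
        = T * gv a w 1 g * T * (T * wv a w 1 l * T) := by
      calc _ = T * gv a w 1 g * (T * T) * wv a w 1 l * T := by rw [hT]; group
        _ = _ := by group
    rw [wv, hsplit, ih, List.sum_cons]
    rcases g with _ | _ | g
    · show T * a * T * _ = _
      rw [ha, zero_add, mul_assoc]; rfl
    · show T * w * T * _ = _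
      rw [hw, pow_add, pow_one]
      show w * c * (wv a w 1 l * c ^ l.sum) = w * wv a w 1 l * (c * c ^ l.sum)
      calc w * c * (wv a w 1 l * c ^ l.sum) = w * (c * wv a w 1 l) * c ^ l.sum := by group
        _ = w * (wv a w 1 l * c) * c ^ l.sum := by rw [hc]
        _ = _ := by group
    · omega

/-- the case of a kernel of exponent two -/
theorem two [Finite Γ] (hs : IsSimpleGroup J) (hσ : Cfsg.IsStemExtension σ)
    (h2 : ∀ z ∈ σ.ker, z * z = 1) : σ.ker = ⊥ := by
  obtain ⟨hsurj, hc, hk⟩ := hσ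
  obtain ⟨ψ, hψ⟩ := exists_psi σ hsurj hc
  obtain ⟨T0, hT0⟩ := hsurj ct
  obtain ⟨X, hX⟩ : ∃ v, v = ψ pA := ⟨_, rfl⟩
  obtain ⟨Y, hY⟩ : ∃ v, v = ψ pB := ⟨_, rfl⟩
  have sX : σ X = cx := hX ▸ (hψ pA).trans toJ_pA
  have sY : σ Y = cy := hY ▸ (hψ pB).trans toJ_pB
  have sw : ∀ (l : List ℕ) (U : Γ), σ (wv X Y U l) = wv cx cy (σ U) l := fun l U => by
    rw [map_wv, sX, sY]
  have lift : ∀ {u v : Pres}, u = v → ψ u = ψ v := fun e => congrArg ψ e
  have eS : xw X Y ls = wv X Y 1 lsxy := by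
    simpa only [map_xw, map_wv, map_one, ← hX, ← hY] using lift P_sxy
  have eZ : fZ X Y = wv X Y 1 lzxy := by
    simpa only [map_fZ, map_wv, map_one, ← hX, ← hY] using lift P_zxy
  have eB : fB X Y = wv X Y 1 lb := by simpa only [map_fB, map_wv, map_one, ← hX, ← hY] using lift P_b
  have eBi : (fB X Y)⁻¹ = wv X Y 1 lbi := by
    simpa only [map_inv, map_fB, map_wv, map_one, ← hX, ← hY] using lift P_bi
  have i8 : wv X Y 1 li8 * wv X Y 1 li8 = 1 := by
    simpa only [map_mul, map_wv, map_one, ← hX, ← hY] using lift P_i8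
  have i7 : wv X Y 1 li7 * wv X Y 1 li7 = 1 := by
    simpa only [map_mul, map_wv, map_one, ← hX, ← hY] using lift P_i7
  have hS : xw X Y ls * xw X Y ls = 1 := by
    simpa only [map_mul, map_xw, map_one, ← hX, ← hY] using lift P_S
  have xx : X * X = 1 := by simpa [pow_two, ← hX] using lift P_rels.1
  -- normalisation
  have sA : σ (fA X Y) = fA cx cy := by rw [map_fA, sX, sY]
  have rel : ∀ r ∈ Cfsg.Spor.J4.extra, PresentedGroup.mk
      (Cfsg.Spor.coxRelators Cfsg.Spor.J4.edges ∪ {r | r ∈ Cfsg.Spor.J4.extra}) r = 1 :=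
    fun r hr => PresentedGroup.one_of_mem (Or.inr hr)
  simp only [Cfsg.Spor.J4.extra, List.forall_mem_cons, List.not_mem_nil, IsEmpty.forall_iff,
    implies_true, and_true] at rel
  obtain ⟨-, -, -, -, -, -, -, q8, q9, q10, q11, q12⟩ := rel
  obtain ⟨c4, hc4⟩ : ∃ v, v = (Y * ((fA X Y)⁻¹ * T0 * fA X Y)) ^ 3 := ⟨_, rfl⟩
  have hc4k : c4 ∈ σ.ker := by
    rw [MonoidHom.mem_ker, hc4, map_pow, map_mul, map_mul, map_mul, map_inv, sY, sA, hT0]
    exact q11
  obtain ⟨T, hTdef⟩ : ∃ T, T = T0 * c4 := ⟨_, rfl⟩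
  have sT : σ T = ct := by rw [hTdef, map_mul, MonoidHom.mem_ker.1 hc4k, mul_one, hT0]
  have h11 : (Y * ((fA X Y)⁻¹ * T * fA X Y)) ^ 3 = 1 := by
    have e : Y * ((fA X Y)⁻¹ * T * fA X Y) = Y * ((fA X Y)⁻¹ * T0 * fA X Y) * c4 := by
      calc _ = Y * ((fA X Y)⁻¹ * T0 * (c4 * fA X Y)) := by rw [hTdef]; group
        _ = Y * ((fA X Y)⁻¹ * T0 * (fA X Y * c4)) := by rw [comm hc hc4k]
        _ = _ := by group
    rw [e, Commute.mul_pow (comm hc hc4k _), ← hc4]
    calc c4 * c4 ^ 3 = (c4 * c4) * (c4 * c4) := by simp [pow_succ, mul_assoc]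
      _ = 1 := by rw [h2 c4 hc4k, one_mul]
  -- the square of t
  have hTT : T * T = 1 := by
    have hg : σ (wv X Y T lgi)⁻¹ = wv cx cy ct lg := by
      rw [map_inv, sw, sT]
      apply inv_eq_of_mul_eq_one_right
      rw [← wv_append]
      simpa using word_pow_one hs c_g
    refine sq_one_of_odd hc h2 (k := 5)
      (ι := wv X Y T lgi * wv X Y 1 li8 * (wv X Y T lgi)⁻¹) ?_ ?_ ?_
    · rw [MonoidHom.mem_ker, map_mul, sT, ← pow_two]; exact q8
    · calc _ = wv X Y T lgi * (wv X Y 1 li8 * wv X Y 1 li8) * (wv X Y T lgi)⁻¹ := by group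
        _ = 1 := by rw [i8, mul_one, mul_inv_cancel]
    · have h := word_pow_one hs c_t
      rw [wv_append, wv_append, wv_append, wv_noT cx cy ct li8 (by decide)] at h
      rw [map_mul, map_mul, map_mul, hg, sT, sw, sw, sT, map_one]
      simpa [wv, gv, mul_assoc] using h
  -- t commutes with x
  have hTX : T * X * T = X := by
    have sq : T * X * (T * X) = 1 := by
      refine sq_one_of_odd hc h2 (k := 15) (ι := wv X Y 1 li7) ?_ i7 ?_
      · rw [MonoidHom.mem_ker, map_mul, map_mul, sT, sX]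
        have q : ct⁻¹ * cx⁻¹ * ct * cx = 1 := q10
        have ti : ct⁻¹ = ct := inv_eq_of_mul_eq_one_right (by rw [← pow_two]; exact q8)
        have xi : cx⁻¹ = cx := inv_eq_of_mul_eq_one_right (by
          rw [← sX, ← map_mul, xx, map_one])
        rw [ti, xi] at q
        simpa [mul_assoc] using q
      · have h := word_pow_one hs c_tx
        rw [wv_append, wv_noT cx cy ct li7 (by decide)] at h
        rw [map_mul, map_mul, sT, sX, sw, map_one]
        simpa [wv, gv, mul_assoc] using h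
    calc T * X * T = T * X * (T * X) * (X * X)⁻¹ * X := by group
      _ = X := by rw [sq, xx]; group
  -- t commutes with the fixed word
  obtain ⟨W, hW⟩ : ∃ v, v = fW X Y := ⟨_, rfl⟩
  have sW : σ W = fW cx cy := by rw [hW, map_fW, sX, sY]
  obtain ⟨c, hcdef⟩ : ∃ v, v = W⁻¹ * (T * W * T) := ⟨_, rfl⟩
  have hck : c ∈ σ.ker := by
    rw [MonoidHom.mem_ker, hcdef, map_mul, map_inv, map_mul, map_mul, sW, sT]
    have q : ct⁻¹ * (fW cx cy)⁻¹ * ct * fW cx cy = 1 := q9
    have ti : ct⁻¹ = ct := inv_eq_of_mul_eq_one_right (by rw [← pow_two]; exact q8)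
    rw [ti] at q
    have t2 : ct * ct = 1 := by rw [← pow_two]; exact q8
    calc (fW cx cy)⁻¹ * (ct * fW cx cy * ct)
        = ct * (ct * (fW cx cy)⁻¹ * ct * fW cx cy) * ct := by
          calc _ = (ct * ct) * ((fW cx cy)⁻¹ * (ct * fW cx cy * ct)) := by rw [t2, one_mul]
            _ = _ := by group
      _ = 1 := by rw [q, mul_one, t2]
  have hW1 : T * W * T = W * c := by rw [hcdef]; group
  have hTW : T * W * T = W := by
    have h1 : T * xw X Y ls * T = xw X Y ls * c := by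
      have h := move_word T X W c hTT hTX hW1 (fun g => comm hc hck g) ls (by decide)
      rw [show ls.sum = 2 * 6 + 1 + (ls.sum - 13) from by decide] at h
      have hpow : c ^ (2 * 6 + 1 + (ls.sum - 13)) = c := by
        rw [show (2 * 6 + 1 + (ls.sum - 13)) = 2 * ((ls.sum - 1) / 2) + 1 from by decide,
          pow_succ, pow_mul, pow_two, h2 c hck, one_pow, one_mul]
      rw [hpow] at h
      simpa [xw, ← hW] using h
    have hh : T * xw X Y ls * (T * xw X Y ls) = c := by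
      calc _ = T * xw X Y ls * T * xw X Y ls := by group
        _ = xw X Y ls * (c * xw X Y ls) := by rw [h1]; group
        _ = xw X Y ls * (xw X Y ls * c) := by rw [comm hc hck]
        _ = c := by rw [← mul_assoc, hS, one_mul]
    have h0 : T * xw X Y ls * (T * xw X Y ls) = 1 := by
      refine sq_one_of_odd hc h2 (k := 2) (ι := wv X Y 1 li8) (hh ▸ hck) i8 ?_
      have h := word_pow_one hs c_ts
      rw [wv_append, wv_append, wv_noT cx cy ct li8 (by decide),
        wv_noT cx cy ct lsxy (by decide)] at h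
      rw [map_mul, map_mul, sT, eS, sw, sw, map_one]
      simpa [wv, gv, mul_assoc] using h
    rw [hW1, ← hh, h0, mul_one]
  -- the last relator
  obtain ⟨H, hH⟩ : ∃ v, v = fZ X Y * T * ((fB X Y)⁻¹ * T * fB X Y) := ⟨_, rfl⟩
  have h12 : H * H = 1 := by
    refine sq_one_of_odd hc h2 (k := 15) (ι := X) ?_ xx ?_
    · rw [MonoidHom.mem_ker, hH, map_mul, map_mul, map_mul, map_mul, map_mul, map_inv, map_fZ,
        map_fB, sX, sY, sT, ← pow_two]
      exact q12
    · have h := word_pow_one hs c_h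
      rw [hH, eBi, eB, eZ, map_mul, map_mul, map_mul, map_mul, map_mul, sw, sw, sw, sT, sX,
        map_one]
      rw [wv_append, wv_append, wv_append, wv_append, wv_append,
        wv_noT cx cy ct lzxy (by decide), wv_noT cx cy ct lbi (by decide),
        wv_noT cx cy ct lb (by decide)] at h
      simpa [wv, gv, mul_assoc] using h
  have Ti : T⁻¹ = T := inv_eq_of_mul_eq_one_right hTT
  refine core hc hk ψ hψ T sT (by rw [pow_two, hTT]) ?_ ?_ (by simp only [← hX, ← hY]; exact h11)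
    (by simp only [← hX, ← hY, ← hH, pow_two]; exact h12)
  all_goals simp only [← hX, ← hY, ← hW]
  · rw [Ti]
    calc T * W⁻¹ * T * W = (T * W * T)⁻¹ * W := by rw [mul_inv_rev, mul_inv_rev, Ti]; group
      _ = 1 := by rw [hTW, inv_mul_cancel]
  · rw [Ti]
    calc T * X⁻¹ * T * X = (T * X * T)⁻¹ * X := by rw [mul_inv_rev, mul_inv_rev, Ti]; group
      _ = 1 := by rw [hTX, inv_mul_cancel]

/-- the case of a kernel of odd order -/
theorem odd [Finite Γ] (hσ : Cfsg.IsStemExtension σ)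
    (h2 : ∀ z ∈ σ.ker, z * z = 1 → z = 1) : σ.ker = ⊥ := by
  obtain ⟨hsurj, hc, hk⟩ := hσ
  obtain ⟨ψ, hψ⟩ := exists_psi σ hsurj hc
  obtain ⟨T0, hT0⟩ := hsurj ct
  have rel : ∀ r ∈ Cfsg.Spor.J4.extra, PresentedGroup.mk
      (Cfsg.Spor.coxRelators Cfsg.Spor.J4.edges ∪ {r | r ∈ Cfsg.Spor.J4.extra}) r = 1 :=
    fun r hr => PresentedGroup.one_of_mem (Or.inr hr)
  simp only [Cfsg.Spor.J4.extra, List.forall_mem_cons, List.not_mem_nil, IsEmpty.forall_iff,
    implies_true, and_true] at rel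
  obtain ⟨-, -, -, -, -, -, -, q8, q9, q10, q11, q12⟩ := rel
  obtain ⟨X, hX⟩ : ∃ v, v = ψ pA := ⟨_, rfl⟩
  obtain ⟨Y, hY⟩ : ∃ v, v = ψ pB := ⟨_, rfl⟩
  have sX : σ X = cx := hX ▸ (hψ pA).trans toJ_pA
  have sY : σ Y = cy := hY ▸ (hψ pB).trans toJ_pB
  have lift : ∀ {u v : Pres}, u = v → ψ u = ψ v := fun e => congrArg ψ e
  -- square roots in the kernel
  have hinj : Function.Injective fun z : σ.ker => z * z := fun a b e => by
    have e' : (a : Γ) * a = b * b := congrArg Subtype.val e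
    have h := h2 ((a : Γ) * (b : Γ)⁻¹) (mul_mem a.2 (inv_mem b.2)) (by
      calc (a : Γ) * (b : Γ)⁻¹ * ((a : Γ) * (b : Γ)⁻¹)
          = (a : Γ) * ((b : Γ)⁻¹ * a) * (b : Γ)⁻¹ := by group
        _ = (a : Γ) * (a * (b : Γ)⁻¹) * (b : Γ)⁻¹ := by rw [comm hc a.2]
        _ = (a : Γ) * a * ((b : Γ) * b)⁻¹ := by group
        _ = 1 := by rw [e', mul_inv_cancel])
    exact Subtype.ext (mul_inv_eq_one.1 h)
  have h0 : T0 * T0 ∈ σ.ker := by rw [MonoidHom.mem_ker, map_mul, hT0, ← pow_two]; exact q8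
  obtain ⟨⟨r, hr⟩, hr2⟩ := Finite.injective_iff_surjective.1 hinj
    ⟨(T0 * T0)⁻¹, inv_mem h0⟩
  have hr' : r * r = (T0 * T0)⁻¹ := congrArg Subtype.val hr2
  obtain ⟨T, hTdef⟩ : ∃ T, T = T0 * r := ⟨_, rfl⟩
  have sT : σ T = ct := by rw [hTdef, map_mul, MonoidHom.mem_ker.1 hr, mul_one, hT0]
  have hTT : T * T = 1 := by
    calc T * T = T0 * (r * T0) * r := by rw [hTdef]; group
      _ = T0 * (T0 * r) * r := by rw [← comm hc hr T0]
      _ = T0 * T0 * (r * r) := by group
      _ = 1 := by rw [hr', mul_inv_cancel]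
  have Ti : T⁻¹ = T := inv_eq_of_mul_eq_one_right hTT
  have commuteT : ∀ g : Γ, T⁻¹ * g⁻¹ * T * g ∈ σ.ker → T * g * T = g := fun g hg => by
    rw [Ti] at hg
    obtain ⟨c, hcd⟩ : ∃ v, v = T * g⁻¹ * T * g := ⟨_, rfl⟩
    rw [← hcd] at hg
    have e1 : T * g * T = g * c⁻¹ := by rw [hcd, mul_inv_rev, mul_inv_rev, mul_inv_rev, Ti]; group
    have e2 : g = g * (c⁻¹ * c⁻¹) := by
      calc g = T * T * g * (T * T) := by rw [hTT]; group
        _ = T * (T * g * T) * T := by group
        _ = T * g * (c⁻¹ * T) := by rw [e1]; group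
        _ = T * g * (T * c⁻¹) := by rw [comm hc (inv_mem hg)]
        _ = T * g * T * c⁻¹ := by group
        _ = _ := by rw [e1]; group
    have := h2 c⁻¹ (inv_mem hg) (mul_eq_left.1 e2.symm)
    rw [e1, this, mul_one]
  have sW : σ (fW X Y) = fW cx cy := by rw [map_fW, sX, sY]
  have hTX : T * X * T = X := commuteT X (by
    rw [MonoidHom.mem_ker, map_mul, map_mul, map_mul, map_inv, map_inv, sT, sX]; exact q10)
  have hTW : T * fW X Y * T = fW X Y := commuteT _ (by
    rw [MonoidHom.mem_ker, map_mul, map_mul, map_mul, map_inv, map_inv, sT, sW]; exact q9)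
  have cword : ∀ l : List ℕ, (∀ g ∈ l, g < 2) → T * xw X Y l * T = xw X Y l := fun l hl => by
    simpa [xw] using move_word T X (fW X Y) 1 hTT hTX (by rw [mul_one, hTW]) (by simp) l hl
  have commW : ∀ l : List ℕ, (∀ g ∈ l, g < 2) → Commute T (xw X Y l) := fun l hl => by
    show T * xw X Y l = xw X Y l * T
    calc T * xw X Y l = T * xw X Y l * (T * T) := by rw [hTT, mul_one]
      _ = T * xw X Y l * T * T := by group
      _ = _ := by rw [cword l hl]
  -- the first long relator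
  obtain ⟨u, hu⟩ : ∃ v, v = (fA X Y)⁻¹ * T * fA X Y := ⟨_, rfl⟩
  have uu : u * u = 1 := by
    calc u * u = (fA X Y)⁻¹ * (T * T) * fA X Y := by rw [hu]; group
      _ = 1 := by rw [hTT]; group
  have hκ : (Y * u) ^ 3 ∈ σ.ker := by
    rw [MonoidHom.mem_ker, map_pow, map_mul, hu, map_mul, map_mul, map_inv, map_fA, sX, sY, sT]
    exact q11
  have y3 : Y * (Y * Y) = 1 := by
    have : Y ^ 3 = 1 := by simpa [← hY] using lift P_rels.2.1
    rw [← this]; simp [pow_succ, mul_assoc]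
  have h11 : (Y * u) ^ 3 = 1 := by
    obtain ⟨κ, hκd⟩ : ∃ v, v = (Y * u) ^ 3 := ⟨_, rfl⟩
    rw [← hκd] at hκ ⊢
    obtain ⟨a, ha⟩ : ∃ v, v = Y * u * Y⁻¹ := ⟨_, rfl⟩
    obtain ⟨b, hb⟩ : ∃ v, v = Y * Y * u * (Y * Y)⁻¹ := ⟨_, rfl⟩
    have aa : a * a = 1 := by
      calc a * a = Y * (u * u) * Y⁻¹ := by rw [ha]; group
        _ = 1 := by rw [uu]; group
    have bb : b * b = 1 := by
      calc b * b = Y * Y * (u * u) * (Y * Y)⁻¹ := by rw [hb]; group
        _ = 1 := by rw [uu]; group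
    have abu : a * b * u = κ := by
      calc a * b * u = Y * u * (Y * u) * (Y * (Y * Y))⁻¹ * (Y * u) := by rw [ha, hb]; group
        _ = Y * u * (Y * u) * (Y * u) := by rw [y3]; group
        _ = κ := by simp [hκd, pow_succ, mul_assoc]
    have ab : a * b = κ * u := by
      rw [← abu]
      calc a * b = a * b * (u * u) := by rw [uu, mul_one]
        _ = _ := by group
    have ai : a⁻¹ = a := inv_eq_of_mul_eq_one_right aa
    have bi : b⁻¹ = b := inv_eq_of_mul_eq_one_right bb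
    have ui : u⁻¹ = u := inv_eq_of_mul_eq_one_right uu
    have ba : b * a = u * κ⁻¹ := by
      calc b * a = (a * b)⁻¹ := by rw [mul_inv_rev, ai, bi]
        _ = _ := by rw [ab, mul_inv_rev, ui]
    have aua : a * u * a = u * (κ⁻¹ * κ⁻¹) := by
      have h3 : κ * (a * u * a) = b * a := by
        calc κ * (a * u * a) = a * (κ * u) * a := by
              rw [← mul_assoc, ← mul_assoc, ← comm hc hκ a]; group
          _ = a * a * b * a := by rw [← ab]; group
          _ = _ := by rw [aa, one_mul]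
      calc a * u * a = κ⁻¹ * (κ * (a * u * a)) := by group
        _ = κ⁻¹ * (u * κ⁻¹) := by rw [h3, ba]
        _ = (κ⁻¹ * u) * κ⁻¹ := by group
        _ = (u * κ⁻¹) * κ⁻¹ := by rw [← comm hc (inv_mem hκ) u]
        _ = _ := by group
    have h4 : (κ⁻¹ * κ⁻¹) * (κ⁻¹ * κ⁻¹) = 1 := by
      have hk2 : κ⁻¹ * κ⁻¹ ∈ σ.ker := mul_mem (inv_mem hκ) (inv_mem hκ)
      generalize κ⁻¹ * κ⁻¹ = e at hk2 aua ⊢
      calc e * e = (u * u) * (e * e) := by rw [uu, one_mul]
        _ = u * (u * e) * e := by group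
        _ = u * (e * u) * e := by rw [comm hc hk2 u]
        _ = (a * u * a) * (a * u * a) := by rw [aua]; group
        _ = a * u * (a * a) * u * a := by group
        _ = a * (u * u) * a := by rw [aa]; group
        _ = 1 := by rw [uu, mul_one, aa]
    exact inv_eq_one.1 (h2 _ (inv_mem hκ) (h2 _ (mul_mem (inv_mem hκ) (inv_mem hκ)) h4))
  -- the second long relator
  have eA0b : fB X Y * xw X Y la0 * (fB X Y)⁻¹ = xw X Y la0b := by
    simpa only [map_mul, map_inv, map_xw, map_fB, ← hX, ← hY] using lift P_A0b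
  have eA0Z : xw X Y la0 * fZ X Y * (xw X Y la0)⁻¹ = (fZ X Y)⁻¹ := by
    simpa only [map_mul, map_inv, map_xw, map_fZ, ← hX, ← hY] using lift P_A0Z
  have eZ : fZ X Y = xw X Y lz := by simpa only [map_xw, map_fZ, ← hX, ← hY] using lift P_Z
  obtain ⟨T', hT'⟩ : ∃ v, v = (fB X Y)⁻¹ * T * fB X Y := ⟨_, rfl⟩
  have T'T' : T' * T' = 1 := by
    calc T' * T' = (fB X Y)⁻¹ * (T * T) * fB X Y := by rw [hT']; group
      _ = 1 := by rw [hTT]; group
  obtain ⟨H, hH⟩ : ∃ v, v = fZ X Y * T * T' := ⟨_, rfl⟩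
  have hHk : H * H ∈ σ.ker := by
    rw [MonoidHom.mem_ker, hH, hT', map_mul, map_mul, map_mul, map_mul, map_mul, map_inv, map_fZ,
      map_fB, sX, sY, sT, ← pow_two]
    exact q12
  obtain ⟨A, hA⟩ : ∃ v, v = xw X Y la0 := ⟨_, rfl⟩
  rw [← hA] at eA0b eA0Z
  have cAT : Commute T A := hA ▸ commW la0 (by decide)
  have cZT : Commute T (fZ X Y) := by rw [eZ]; exact commW lz (by decide)
  have cAT' : Commute T' A := by
    have h : Commute T (fB X Y * A * (fB X Y)⁻¹) := by rw [eA0b]; exact commW la0b (by decide)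
    show T' * A = A * T'
    calc T' * A = (fB X Y)⁻¹ * (T * (fB X Y * A * (fB X Y)⁻¹)) * fB X Y := by rw [hT']; group
      _ = (fB X Y)⁻¹ * ((fB X Y * A * (fB X Y)⁻¹) * T) * fB X Y := by rw [h.eq]
      _ = A * T' := by rw [hT']; group
  have e1 : A * H * A⁻¹ = (fZ X Y)⁻¹ * T * T' := by
    calc A * H * A⁻¹ = A * fZ X Y * A⁻¹ * (A * T * A⁻¹) * (A * T' * A⁻¹) := by rw [hH]; group
      _ = _ := by rw [eA0Z, ← cAT.eq, ← cAT'.eq, mul_inv_cancel_right, mul_inv_cancel_right]
  have Ti' : T'⁻¹ = T' := inv_eq_of_mul_eq_one_right T'T'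
  have e2 : ((fZ X Y)⁻¹ * T) * H⁻¹ * ((fZ X Y)⁻¹ * T)⁻¹ = (fZ X Y)⁻¹ * T * T' := by
    have hzT : (fZ X Y)⁻¹ * T = T * (fZ X Y)⁻¹ := cZT.inv_right.eq.symm
    rw [hH, mul_inv_rev, mul_inv_rev, mul_inv_rev, inv_inv, Ti', Ti]
    calc (fZ X Y)⁻¹ * T * (T' * (T * (fZ X Y)⁻¹)) * (T * fZ X Y)
        = (fZ X Y)⁻¹ * T * T' * (T * (fZ X Y)⁻¹ * T * fZ X Y) := by group
      _ = (fZ X Y)⁻¹ * T * T' * (T * T * ((fZ X Y)⁻¹ * fZ X Y)) := by
        rw [mul_assoc T (fZ X Y)⁻¹ T, hzT]; group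
      _ = _ := by rw [hTT, inv_mul_cancel, mul_one, mul_one]
  have h12 : H * H = 1 := by
    apply h2 _ hHk
    have s1 : A * (H * H) * A⁻¹
        = (fZ X Y)⁻¹ * T * T' * ((fZ X Y)⁻¹ * T * T') := by
      rw [← e1]; group
    have s2 : ((fZ X Y)⁻¹ * T) * (H * H)⁻¹ * ((fZ X Y)⁻¹ * T)⁻¹
        = (fZ X Y)⁻¹ * T * T' * ((fZ X Y)⁻¹ * T * T') := by
      rw [← e2]
      group
    rw [comm hc hHk A, mul_assoc, mul_inv_cancel, mul_one] at s1
    rw [comm hc (inv_mem hHk), mul_assoc, mul_inv_cancel, mul_one] at s2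
    calc H * H * (H * H) = H * H * ((H * H)⁻¹) := by rw [s2, ← s1]
      _ = 1 := mul_inv_cancel _
  refine core hc hk ψ hψ T sT (by rw [pow_two, hTT]) ?_ ?_
    (by simp only [← hX, ← hY, ← hu]; exact h11)
    (by simp only [← hX, ← hY, ← hT', ← hH, pow_two]; exact h12)
  all_goals simp only [← hX, ← hY]
  · rw [Ti]
    calc T * (fW X Y)⁻¹ * T * fW X Y = (T * fW X Y * T)⁻¹ * fW X Y := by
          rw [mul_inv_rev, mul_inv_rev, Ti]; group
      _ = 1 := by rw [hTW, inv_mul_cancel]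
  · rw [Ti]
    calc T * X⁻¹ * T * X = (T * X * T)⁻¹ * X := by rw [mul_inv_rev, mul_inv_rev, Ti]; group
      _ = 1 := by rw [hTX, inv_mul_cancel]

/-- all finite stem extensions are trivial -/
theorem ker_eq_bot [Finite Γ] (hs : IsSimpleGroup J) (hσ : Cfsg.IsStemExtension σ) :
    σ.ker = ⊥ := by
  obtain ⟨hsurj, hc, hk⟩ := hσ
  let K : Subgroup Γ :=
    { carrier := {g | ∃ z ∈ σ.ker, z * z = g}
      one_mem' := ⟨1, one_mem _, mul_one 1⟩
      mul_mem' := by
        rintro _ _ ⟨a, ha, rfl⟩ ⟨b, hb, rfl⟩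
        refine ⟨a * b, mul_mem ha hb, ?_⟩
        calc a * b * (a * b) = a * (b * a) * b := by group
          _ = a * (a * b) * b := by rw [comm hc ha b]
          _ = _ := by group
      inv_mem' := by
        rintro _ ⟨a, ha, rfl⟩
        exact ⟨a⁻¹, inv_mem ha, (mul_inv_rev a a).symm⟩ }
  have hKle : K ≤ σ.ker := by rintro _ ⟨a, ha, rfl⟩; exact mul_mem ha ha
  haveI : K.Normal := ⟨fun g hg x => by
    rw [comm hc (hKle hg) x, mul_assoc, mul_inv_cancel, mul_one]; exact hg⟩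
  let q := QuotientGroup.mk' K
  let τ : Γ ⧸ K →* J := QuotientGroup.lift K σ hKle
  have hker : τ.ker = σ.ker.map q := QuotientGroup.ker_lift K σ hKle
  have hτ : Cfsg.IsStemExtension τ := by
    refine ⟨fun j => ?_, ?_, ?_⟩
    · obtain ⟨g, hg⟩ := hsurj j
      exact ⟨q g, hg⟩
    · rw [hker]
      rintro _ ⟨z, hz, rfl⟩
      rw [Subgroup.mem_center_iff]
      intro g
      obtain ⟨g, rfl⟩ := QuotientGroup.mk'_surjective K g
      show q g * q z = q z * q g
      rw [← map_mul, ← map_mul, comm hc hz g]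
    · rw [hker]
      have : (commutator Γ).map q = commutator (Γ ⧸ K) := by
        rw [commutator_def, commutator_def, Subgroup.map_commutator,
          Subgroup.map_top_of_surjective q (QuotientGroup.mk'_surjective K)]
      rw [← this]
      exact Subgroup.map_mono hk
  have hbot : τ.ker = ⊥ := two hs hτ (by
    rw [hker]
    rintro _ ⟨z, hz, rfl⟩
    rw [← map_mul]
    exact (QuotientGroup.eq_one_iff _).2 ⟨z, hz, rfl⟩)
  have hall : ∀ z : σ.ker, ∃ y : σ.ker, y * y = z := fun z => by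
    have : q z ∈ σ.ker.map q := Subgroup.mem_map_of_mem q z.2
    rw [← hker, hbot, Subgroup.mem_bot] at this
    obtain ⟨y, hy, e⟩ := (QuotientGroup.eq_one_iff (z : Γ)).1 this
    exact ⟨⟨y, hy⟩, Subtype.ext e⟩
  have hinj : Function.Injective fun y : σ.ker => y * y :=
    Finite.injective_iff_surjective.2 hall
  refine odd ⟨hsurj, hc, hk⟩ fun z hz h => ?_
  exact congrArg Subtype.val (hinj (a₁ := ⟨z, hz⟩) (a₂ := 1) (Subtype.ext (by
    show z * z = 1 * 1
    rw [h, mul_one])))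

end Relations

theorem hasCyclicSchurMultiplier_J4 [Finite J] (hs : IsSimpleGroup J) :
    Cfsg.HasCyclicSchurMultiplier J 1 :=
  H97.hasTrivialMultiplier fun _ _ _ _ hσ => ker_eq_bot hs hσ

end H26.J4Schur
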