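import Mathlib
import Cfsg.Agent.H26.J4Schur.Main
import Cfsg.Prelude.Def_Sporadic

/-!
Trivial multiplier from the order and simplicity of the presented fourth Janko group.
-/

set_option autoImplicit false

namespace H26.J4Schur

/-- consumer form of the main theorem -/
theorem hasCyclicSchurMultiplier_of_isJ4 (h : Cfsg.IsJ4 Cfsg.Spor.J4) :
    Cfsg.HasCyclicSchurMultiplier Cfsg.Spor.J4 1 :=
  haveI : Finite J := Nat.finite_of_card_ne_zero (by rw [h.2]; norm_num)
  hasCyclicSchurMultiplier_J4 h.1

end H26.J4Schur
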